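import Groth.Agent.H24Lin.Basic

/-!
Complete linearly topologized rings are complete along finitely generated ideals of topologically
nilpotent elements.
-/

universe u

open Filter Topology

namespace Groth.Agent.H24Lin

theorem isAdicComplete_of_fg {A : Type u} [CommRing A] [UniformSpace A] [IsUniformAddGroup A]
    [IsTopologicalRing A] [IsLinearTopology A A] [T2Space A] [CompleteSpace A] (I : Ideal A) (hI : I.FG)
    (h : ∀ x ∈ I, IsTopologicallyNilpotent x) : IsAdicComplete I A := by
  have hsm : ∀ m : ℕ, (I ^ m • (⊤ : Submodule A A)) = I ^ m := fun m => by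
    rw [smul_eq_mul, Ideal.mul_top]
  have hpow : ∀ U ∈ 𝓝 (0 : A), ∃ n, ((I ^ n : Ideal A) : Set A) ⊆ U := fun U hU =>
    (exists_pow_subset_of_fg hI h hU).imp fun n hn => hn.2
  refine { haus' := fun x hx => ?_, prec' := fun f hf => ?_ }
  · refine eq_zero_of_forall_mem fun U hU => ?_
    obtain ⟨n, hn⟩ := hpow U hU
    have := hx n
    rw [hsm, SModEq.zero] at this
    exact hn this
  · have hf' : ∀ m n, m ≤ n → f n - f m ∈ I ^ m := fun m n hmn => by
      have := (hf hmn).symm
      rwa [hsm, SModEq.sub_mem] at this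
    obtain ⟨L, hL, -⟩ := exists_tendsto_of_succ_sub_mem (fun n => (I ^ n).toAddSubgroup)
      (fun a b hab => Ideal.pow_le_pow_right hab) hpow f (fun n => hf' n _ n.le_succ)
    refine ⟨L, fun m => ?_⟩
    rw [hsm, SModEq.sub_mem, ← neg_sub]
    refine (I ^ m).neg_mem ?_
    obtain ⟨l, g, hg⟩ := Submodule.fg_iff_exists_fin_generating_family.mp (Submodule.FG.pow hI m)
    have hd : ∀ j, ∃ z : Fin l → A, (∀ i, z i ∈ I ^ j) ∧ ∑ i, g i • z i = f (m + j + 1) - f (m + j) := by
      intro j
      refine exists_eq_sum_smul g _ ?_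
      rw [show Ideal.span (Set.range g) = I ^ m from hg, smul_eq_mul, ← pow_add]
      exact hf' _ _ (Nat.le_succ _)
    choose z hz hze using hd
    let s : Fin l → ℕ → A := fun i n => ∑ j ∈ Finset.range n, z j i
    have hsum : ∀ n, f (m + n) - f m = ∑ i, g i • s i n := fun n => by
      induction n with
      | zero => simp [s]
      | succ n ih =>
        simp only [s, Finset.sum_range_succ, smul_add, Finset.sum_add_distrib] at ih ⊢
        rw [← ih, hze]
        exact (sub_add_sub_cancel' _ _ _).symm
    have hs : ∀ i, ∃ y, Tendsto (s i) atTop (𝓝 y) := fun i =>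
      (exists_tendsto_of_succ_sub_mem (fun n => (I ^ n).toAddSubgroup)
        (fun a b hab => Ideal.pow_le_pow_right hab) hpow (s i)
        (fun n => by simp only [s, Finset.sum_range_succ, add_sub_cancel_left]; exact hz n i)).imp
        fun y hy => hy.1
    choose y hy using hs
    have e : L - f m = ∑ i, g i • y i :=
      tendsto_nhds_unique (f := fun n => f (m + n) - f m)
        (((hL.comp (tendsto_atTop_mono (fun n => Nat.le_add_left n m) tendsto_id))).sub_const (f m))
        (by simp_rw [hsum]; exact tendsto_finsetSum _ fun i _ => (hy i).const_mul (g i))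
    rw [e]
    exact Submodule.sum_mem _ fun i _ => Ideal.mul_mem_right _ _ (hg ▸ Submodule.subset_span ⟨i, rfl⟩)

end Groth.Agent.H24Lin
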