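import Groth.Prelude.Def_LinTop
import Groth.Prelude.Def_W4stk3formalspacesTaut
import Mathlib.Topology.UniformSpace.Completion
import Mathlib.RingTheory.Finiteness.Ideal
import Mathlib.RingTheory.AdicCompletion.Basic
import Mathlib.Topology.Algebra.OpenSubgroup

/-!
Linearly topologized rings: closures of ideals, successive approximation in complete groups.
-/

universe u v w

open Filter Topology

set_option linter.style.haveILetI false

namespace Groth.Agent.H24Lin

section Group

variable {G : Type u} [AddCommGroup G]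

/-- A sequence with differences in a shrinking sequence of subgroups converges. -/
theorem exists_tendsto_of_succ_sub_mem [UniformSpace G] [IsUniformAddGroup G] [CompleteSpace G]
    (B : ℕ → AddSubgroup G) (hanti : Antitone B) (hB : ∀ U ∈ 𝓝 (0 : G), ∃ n, (B n : Set G) ⊆ U)
    (s : ℕ → G) (hs : ∀ n, s (n + 1) - s n ∈ B n) :
    ∃ x, Tendsto s atTop (𝓝 x) ∧ ∀ n, x - s n ∈ (B n).topologicalClosure := by
  have key : ∀ k n, k ≤ n → s n - s k ∈ B k := fun k n h => by
    induction n, h using Nat.le_induction with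
    | base => rw [sub_self]; exact zero_mem _
    | succ n hkn ih =>
      rw [← sub_add_sub_cancel (s (n + 1)) (s n) (s k)]
      exact add_mem (hanti hkn (hs n)) ih
  have hc : CauchySeq s := by
    rw [cauchySeq_iff_tendsto, uniformity_eq_comap_nhds_zero G, tendsto_comap_iff]
    intro U hU
    obtain ⟨k, hk⟩ := hB U hU
    rw [mem_map, mem_atTop_sets]
    refine ⟨(k, k), fun n hn => hk ?_⟩
    change s n.2 - s n.1 ∈ B k
    rw [← sub_sub_sub_cancel_right (s n.2) (s n.1) (s k)]
    exact sub_mem (key k _ hn.2) (key k _ hn.1)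
  obtain ⟨x, hx⟩ := cauchySeq_tendsto_of_complete hc
  refine ⟨x, hx, fun n => ?_⟩
  exact mem_closure_of_tendsto (hx.sub_const (s n)) (eventually_atTop.mpr ⟨n, fun m hm => key n m hm⟩)

theorem eq_zero_of_forall_mem [TopologicalSpace G] [T2Space G] {x : G}
    (h : ∀ U ∈ 𝓝 (0 : G), x ∈ U) : x = 0 := by
  by_contra hx
  exact (h _ (isOpen_compl_singleton.mem_nhds (Ne.symm hx))) rfl

/-- Successive approximation: the closure of the image of a small subgroup is contained in the image of
its closure. -/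
theorem mem_image_of_mem_closure [UniformSpace G] [IsUniformAddGroup G] [CompleteSpace G] {H : Type v}
    [AddCommGroup H] [TopologicalSpace H] [IsTopologicalAddGroup H] [T2Space H] (f : G →+ H)
    (hf : Continuous f) (B : ℕ → AddSubgroup G) (hanti : Antitone B)
    (hB : ∀ U ∈ 𝓝 (0 : G), ∃ n, (B n : Set G) ⊆ U)
    (hopen : ∀ n, closure (f '' (B n : Set G)) ∈ 𝓝 (0 : H)) {k : ℕ} {y : H}
    (hy : y ∈ closure (f '' (B k : Set G))) : ∃ x ∈ (B k).topologicalClosure, f x = y := by
  have step : ∀ n y', y' ∈ closure (f '' (B n : Set G)) →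
      ∃ a ∈ B n, y' - f a ∈ closure (f '' (B (n + 1) : Set G)) := by
    intro n y' hy'
    have ht : Tendsto (fun z => y' - z) (𝓝 y') (𝓝 0) :=
      ((continuous_const (y := y')).sub continuous_id).tendsto' _ _ (sub_self y')
    obtain ⟨z, hz, a, ha, rfl⟩ := mem_closure_iff_nhds.mp hy' _ (ht (hopen (n + 1)))
    exact ⟨a, ha, hz⟩
  choose a ha hay using step
  let r : ∀ n : ℕ, {y' : H // y' ∈ closure (f '' (B (k + n) : Set G))} :=
    fun n => Nat.rec ⟨y, hy⟩ (fun m p => ⟨p.1 - f (a _ p.1 p.2), hay _ p.1 p.2⟩) n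
  let s : ℕ → G := fun n => ∑ i ∈ Finset.range n, a _ (r i).1 (r i).2
  have hr : ∀ n, (r n).1 = y - f (s n) := fun n => by
    induction n with
    | zero => simp [s, r]
    | succ n ih =>
      change (r n).1 - f (a _ (r n).1 (r n).2) = y - f (s (n + 1))
      simp only [s, Finset.sum_range_succ, map_add]
      rw [← sub_sub]
      exact congrArg (· - f (a _ (r n).1 (r n).2)) ih
  obtain ⟨x, hx, hxs⟩ := exists_tendsto_of_succ_sub_mem (fun n => B (k + n))
    (fun i j h => hanti (Nat.add_le_add_left h k))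
    (fun U hU => (hB U hU).elim fun n hn => ⟨n, Set.Subset.trans (hanti (Nat.le_add_left n k)) hn⟩)
    s (fun n => by simp only [s, Finset.sum_range_succ, add_sub_cancel_left]; exact ha _ _ _)
  refine ⟨x, by simpa [s] using hxs 0, ?_⟩
  refine (sub_eq_zero.mp (eq_zero_of_forall_mem fun U hU => ?_)).symm
  obtain ⟨V, hV, hVc, hVU⟩ := exists_mem_nhds_isClosed_subset hU
  obtain ⟨n, hn⟩ := hB _ (hf.tendsto' 0 0 (map_zero f) hV)
  refine hVU (hVc.mem_of_tendsto
    (tendsto_const_nhds.sub ((hf.tendsto x).comp hx)) (eventually_atTop.mpr ⟨n, fun m hm => ?_⟩))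
  change y - f (s m) ∈ V
  rw [← hr m]
  exact closure_minimal (Set.image_subset_iff.mpr
    (Set.Subset.trans (hanti (le_add_left hm)) hn)) hVc (r m).2

end Group

section Ring

variable {A : Type u} [CommRing A] [TopologicalSpace A] [IsTopologicalRing A]

theorem le_closure (I : Ideal A) : I ≤ I.closure := fun _ hx => subset_closure hx

theorem closure_mono {I J : Ideal A} (h : I ≤ J) : I.closure ≤ J.closure :=
  fun _ hx => _root_.closure_mono h hx

theorem closure_eq_of_isOpen (I : Ideal A) (h : IsOpen (I : Set A)) : I.closure = I :=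
  I.closure_eq_of_isClosed (I.toAddSubgroup.isClosed_of_isOpen h)

theorem closure_le_of_isClosed {I J : Ideal A} (h : I ≤ J) (hJ : IsClosed (J : Set A)) :
    I.closure ≤ J := fun _ hx => closure_minimal h hJ hx

theorem closure_closure (I : Ideal A) : I.closure.closure = I.closure :=
  Ideal.closure_eq_of_isClosed _ isClosed_closure

theorem closure_mul_closure_le (I J : Ideal A) : I.closure * J.closure ≤ (I * J).closure :=
  Ideal.mul_le.mpr fun _ hr _ hs =>
    map_mem_closure₂ continuous_mul hr hs fun _ ha _ hb => Ideal.mul_mem_mul ha hb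

theorem closure_pow_le (I : Ideal A) (n : ℕ) : I.closure ^ n ≤ (I ^ n).closure := by
  induction n with
  | zero => rw [pow_zero, pow_zero]; exact le_closure _
  | succ n ih =>
    rw [pow_succ, pow_succ]
    exact (Ideal.mul_mono_left ih).trans (closure_mul_closure_le _ _)

theorem isOpen_of_le {I J : Ideal A} (h : I ≤ J) (hI : IsOpen (I : Set A)) : IsOpen (J : Set A) :=
  Submodule.isOpen_mono h hI

theorem basis_open_ideal [IsLinearTopology A A] :
    (𝓝 (0 : A)).HasBasis (fun I : Ideal A => IsOpen (I : Set A)) (fun I : Ideal A => (I : Set A)) :=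
  IsLinearTopology.hasBasis_open_ideal

theorem exists_open_ideal [IsLinearTopology A A] {U : Set A} (hU : U ∈ 𝓝 (0 : A)) :
    ∃ I : Ideal A, IsOpen (I : Set A) ∧ (I : Set A) ⊆ U :=
  (basis_open_ideal.mem_iff).mp hU

theorem nhds_of_isOpen (I : Ideal A) (h : IsOpen (I : Set A)) : (I : Set A) ∈ 𝓝 (0 : A) :=
  h.mem_nhds I.zero_mem

variable {B : Type v} [CommRing B] [TopologicalSpace B] [IsTopologicalRing B]

theorem map_closure_le (φ : A →+* B) (hφ : Continuous φ) (I : Ideal A) :
    I.closure.map φ ≤ (I.map φ).closure :=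
  Ideal.map_le_iff_le_comap.mpr fun _ hx =>
    map_mem_closure hφ hx fun _ ha => Ideal.mem_map_of_mem φ ha

theorem closure_map_closure (φ : A →+* B) (hφ : Continuous φ) (I : Ideal A) :
    (I.closure.map φ).closure = (I.map φ).closure :=
  le_antisymm ((closure_mono (map_closure_le φ hφ I)).trans (closure_closure _).le)
    (closure_mono (Ideal.map_mono (le_closure I)))

theorem isOpen_comap (φ : A →+* B) (hφ : Continuous φ) (J : Ideal B) (h : IsOpen (J : Set B)) :
    IsOpen ((J.comap φ : Ideal A) : Set A) :=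
  h.preimage hφ

/-- With a linear topology on the target, the third condition in the definition of taut maps follows
from continuity. -/
theorem isTaut_iff [IsLinearTopology B B] (φ : A →+* B) :
    LinTop.IsTaut φ ↔
      Continuous φ ∧ ∀ I : Ideal A, IsOpen (I : Set A) → IsOpen ((I.map φ).closure : Set B) := by
  refine ⟨fun h => ⟨h.1, h.2.1⟩, fun h => ⟨h.1, h.2, fun U hU => ?_⟩⟩
  obtain ⟨J, hJ, hJU⟩ := exists_open_ideal hU
  exact ⟨J.comap φ, isOpen_comap φ h.1 J hJ,
    Set.Subset.trans (closure_le_of_isClosed Ideal.map_comap_le (J.toAddSubgroup.isClosed_of_isOpen hJ) :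
      ((J.comap φ).map φ).closure ≤ J) hJU⟩

theorem map_le_closure_image {φ : A →+* B} (hd : DenseRange φ) (I : Ideal A) :
    ((I.map φ).closure : Set B) = closure (φ '' (I : Set A)) := by
  refine subset_antisymm (closure_minimal ?_ isClosed_closure)
    (_root_.closure_mono (Set.image_subset_iff.mpr fun _ hx => Ideal.mem_map_of_mem φ hx))
  intro x hx
  refine Submodule.span_induction (p := fun x _ => x ∈ closure (φ '' (I : Set A))) ?_ ?_ ?_ ?_ hx
  · exact fun x hx => subset_closure hx
  · exact subset_closure ⟨0, I.zero_mem, map_zero φ⟩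
  · exact fun x y _ _ hx hy => map_mem_closure₂ continuous_add hx hy
      fun _ ⟨a, ha, e⟩ _ ⟨b, hb, e'⟩ => ⟨a + b, I.add_mem ha hb, by rw [map_add, e, e']⟩
  · exact fun b x _ hx => map_mem_closure₂ continuous_mul (hd b) hx
      fun _ ⟨a, e⟩ _ ⟨c, hc, e'⟩ => ⟨a * c, I.mul_mem_left a hc, by rw [map_mul, e, e', smul_eq_mul]⟩

end Ring

section Ideals

variable {A : Type u} [CommRing A] [TopologicalSpace A] [IsTopologicalRing A] [IsLinearTopology A A]

/-- A finitely generated ideal of topologically nilpotent elements has powers tending to zero. -/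
theorem exists_pow_subset_of_fg {I : Ideal A} (hI : I.FG) (h : ∀ x ∈ I, IsTopologicallyNilpotent x)
    {U : Set A} (hU : U ∈ 𝓝 (0 : A)) : ∃ n, 0 < n ∧ ((I ^ n : Ideal A) : Set A) ⊆ U := by
  obtain ⟨V, hV, hVU⟩ := exists_open_ideal hU
  have h1 : I ≤ V.radical := fun x hx =>
    (h x hx).exists_pow_mem_of_mem_nhds (nhds_of_isOpen V hV)
  obtain ⟨n, hn⟩ := Ideal.exists_pow_le_of_le_radical_of_fg h1 hI
  exact ⟨n + 1, Nat.succ_pos n, Set.Subset.trans ((Ideal.pow_le_pow_right n.le_succ).trans hn) hVU⟩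

theorem isTopologicallyNilpotent_of_mem {I : Ideal A}
    (h : ∀ U ∈ 𝓝 (0 : A), ∃ n, ((I ^ n : Ideal A) : Set A) ⊆ U) {x : A} (hx : x ∈ I) :
    IsTopologicallyNilpotent x := fun U hU => by
  obtain ⟨n, hn⟩ := h U hU
  exact mem_atTop_sets.mpr ⟨n, fun m hm =>
    hn (Ideal.pow_le_pow_right hm (Ideal.pow_mem_pow hx m))⟩

theorem isClosed_topologicalNilradical :
    IsClosed ((topologicalNilradical A : Ideal A) : Set A) := by
  refine isClosed_of_closure_subset fun x hx => ?_
  change IsTopologicallyNilpotent x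
  intro W hW
  obtain ⟨V, hV, hVW⟩ := exists_open_ideal hW
  have ht : Tendsto (fun y => x - y) (𝓝 x) (𝓝 0) :=
    ((continuous_const (y := x)).sub continuous_id).tendsto' _ _ (sub_self x)
  obtain ⟨y, hy1, hy2⟩ := mem_closure_iff_nhds.mp hx _ (ht (nhds_of_isOpen V hV))
  obtain ⟨N, hN⟩ := eventually_atTop.mp
    ((show IsTopologicallyNilpotent y from hy2).eventually_mem (nhds_of_isOpen V hV))
  refine mem_atTop_sets.mpr ⟨N, fun m hm => hVW ?_⟩
  change x ^ m ∈ V
  rw [← sub_add_cancel (x ^ m) (y ^ m)]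
  refine V.add_mem ?_ (hN m hm)
  rw [← geom_sum₂_mul]
  exact V.mul_mem_left _ hy1

theorem isTopologicallyNilpotent_of_mem_closure_map {R : Type v} [CommRing R] [TopologicalSpace R]
    (φ : R →+* A) (hφ : Continuous φ) (I : Ideal R) (h : ∀ x ∈ I, IsTopologicallyNilpotent x) {g : A}
    (hg : g ∈ (I.map φ).closure) : IsTopologicallyNilpotent g :=
  closure_le_of_isClosed (J := topologicalNilradical A)
    (Ideal.map_le_iff_le_comap.mpr fun x hx => (h x hx).map hφ)
    isClosed_topologicalNilradical hg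

end Ideals

section Complete

variable {A : Type u} [CommRing A] [UniformSpace A] [IsUniformAddGroup A] [IsTopologicalRing A]
  [IsLinearTopology A A] [T2Space A] [CompleteSpace A]

theorem isUnit_one_sub {x : A} (hx : IsTopologicallyNilpotent x) : IsUnit (1 - x) := by
  obtain ⟨y, hy⟩ : ∃ y, Tendsto (fun n => ∑ i ∈ Finset.range n, x ^ i) atTop (𝓝 y) := by
    refine cauchySeq_tendsto_of_complete ?_
    rw [cauchySeq_iff_tendsto, uniformity_eq_comap_nhds_zero A, tendsto_comap_iff]
    intro U hU
    obtain ⟨V, hV, hVU⟩ := exists_open_ideal hU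
    obtain ⟨N, hN⟩ := eventually_atTop.mp (hx.eventually_mem (nhds_of_isOpen V hV))
    have key : ∀ m, N ≤ m → ∑ i ∈ Finset.range m, x ^ i - ∑ i ∈ Finset.range N, x ^ i ∈ V := by
      intro m hm
      rw [← Finset.sum_Ico_eq_sub _ hm]
      exact V.sum_mem fun i hi => hN i (Finset.mem_Ico.mp hi).1
    rw [mem_map, mem_atTop_sets]
    refine ⟨(N, N), fun n hn => hVU ?_⟩
    change ∑ i ∈ Finset.range n.2, x ^ i - ∑ i ∈ Finset.range n.1, x ^ i ∈ V
    rw [← sub_sub_sub_cancel_right _ _ (∑ i ∈ Finset.range N, x ^ i)]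
    exact V.sub_mem (key _ hn.2) (key _ hn.1)
  refine .of_mul_eq_one y ?_
  refine tendsto_nhds_unique (f := fun n => (1 - x) * ∑ i ∈ Finset.range n, x ^ i)
    (hy.const_mul (1 - x)) ?_
  simp only [mul_neg_geom_sum]
  simpa using hx.const_sub 1

theorem le_jacobson {I : Ideal A} (h : ∀ x ∈ I, IsTopologicallyNilpotent x) :
    I ≤ (⊥ : Ideal A).jacobson := fun x hx => Ideal.mem_jacobson_bot.mpr fun y => by
  have := isUnit_one_sub (h _ (I.mul_mem_right (-y) hx))
  rwa [mul_neg, sub_neg_eq_add, add_comm] at this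

end Complete

section Module

variable {R : Type u} [CommRing R] {M : Type v} [AddCommGroup M] [Module R M] [UniformSpace M]
  [IsUniformAddGroup M] [ContinuousConstSMul R M] [CompleteSpace M] [T2Space M]

theorem exists_eq_sum_smul {ι : Type w} [Fintype ι] (g : ι → R) (P : Submodule R M) {x : M}
    (hx : x ∈ Ideal.span (Set.range g) • P) : ∃ y : ι → M, (∀ i, y i ∈ P) ∧ ∑ i, g i • y i = x := by
  refine Submodule.smul_induction_on hx (fun a ha m hm => ?_) ?_
  · obtain ⟨c, rfl⟩ := (Submodule.mem_span_range_iff_exists_fun R).mp ha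
    refine ⟨fun i => c i • m, fun i => P.smul_mem _ hm, ?_⟩
    rw [Finset.sum_smul]
    exact Finset.sum_congr rfl fun i _ => by rw [smul_smul, smul_eq_mul, mul_comm]
  · rintro x y ⟨a, ha, rfl⟩ ⟨b, hb, rfl⟩
    exact ⟨a + b, fun i => P.add_mem (ha i) (hb i), by simp [smul_add, Finset.sum_add_distrib]⟩

/-- In a complete module, `I ^ n • closure N` is closed as soon as the closures of the `I ^ m • N` are
open and small. -/
theorem closure_pow_smul_subset (I : Ideal R) (hI : I.FG) (N : Submodule R M)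
    (hopen : ∀ n : ℕ, IsOpen (closure ((I ^ n • N : Submodule R M) : Set M)))
    (hbasis : ∀ U ∈ 𝓝 (0 : M), ∃ n : ℕ, ((I ^ n • N : Submodule R M) : Set M) ⊆ U) (n : ℕ) :
    closure ((I ^ n • N : Submodule R M) : Set M) ⊆
      (I ^ n • N.topologicalClosure : Submodule R M) := by
  intro x hx
  obtain ⟨l, g, hg⟩ := Submodule.fg_iff_exists_fin_generating_family.mp (Submodule.FG.pow hI n)
  let W : ℕ → AddSubgroup (Fin l → M) := fun m =>
    AddSubgroup.pi Set.univ fun _ => (I ^ m • N : Submodule R M).toAddSubgroup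
  let F : (Fin l → M) →+ M := AddMonoidHom.mk' (fun y => ∑ i, g i • y i)
    fun a b => by simp [smul_add, Finset.sum_add_distrib]
  have hW : ∀ m, ((I ^ (n + m) • N : Submodule R M) : Set M) ⊆ F '' (W m : Set (Fin l → M)) := by
    intro m y hy
    rw [SetLike.mem_coe, pow_add, Submodule.mul_smul, ← hg] at hy
    obtain ⟨z, hz, rfl⟩ := exists_eq_sum_smul g _ hy
    exact ⟨z, fun i _ => hz i, rfl⟩
  obtain ⟨z, hz, rfl⟩ := mem_image_of_mem_closure F
    (by
      change Continuous fun y : Fin l → M => ∑ i, g i • y i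
      exact continuous_finsetSum _ fun i _ => (continuous_apply i).const_smul (g i)) W
    (fun a b h y hy i _ => Submodule.smul_mono_left (Ideal.pow_le_pow_right h) (hy i trivial))
    (fun U hU => by
      rw [nhds_pi, Filter.mem_pi] at hU
      obtain ⟨S, hS, V, hV, hVU⟩ := hU
      have hb : ∀ i, ∃ m : ℕ, ((I ^ m • N : Submodule R M) : Set M) ⊆ V i := fun i => hbasis _ (hV i)
      choose m hm using hb
      exact ⟨Finset.univ.sup m, fun y hy => hVU fun i _ => hm i (Submodule.smul_mono_left
        (Ideal.pow_le_pow_right (Finset.le_sup (Finset.mem_univ i))) (hy i trivial))⟩)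
    (fun m => mem_of_superset ((hopen (n + m)).mem_nhds (subset_closure (zero_mem _)))
      (_root_.closure_mono (hW m))) (k := 0) (_root_.closure_mono (hW 0) hx)
  change ∑ i, g i • z i ∈ I ^ n • N.topologicalClosure
  refine Submodule.sum_mem _ fun i _ => Submodule.smul_mem_smul ?_ ?_
  · rw [← hg]; exact Submodule.subset_span ⟨i, rfl⟩
  · exact map_mem_closure (f := fun p : Fin l → M => p i) (continuous_apply i) hz fun y hy => by simpa using hy i trivial

end Module

section Adic

variable {A : Type u} [CommRing A] [UniformSpace A] [IsUniformAddGroup A] [IsTopologicalRing A]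
  [T2Space A] [CompleteSpace A]

theorem isAdic_of_fg_closure_pow (I : Ideal A) (hI : I.FG)
    (hopen : ∀ n : ℕ, IsOpen (closure ((I ^ n : Ideal A) : Set A)))
    (hbasis : ∀ U ∈ 𝓝 (0 : A), ∃ n : ℕ, ((I ^ n : Ideal A) : Set A) ⊆ U) : IsAdic I := by
  refine isAdic_iff.mpr ⟨fun n => ?_, hbasis⟩
  have hsm : ∀ m : ℕ, (I ^ m • (⊤ : Submodule A A)) = I ^ m := fun m => by
    rw [smul_eq_mul, Ideal.mul_top]
  have h1 := closure_pow_smul_subset I hI (⊤ : Submodule A A)
    (fun m => by rw [hsm]; exact hopen m) (fun U hU => by simpa only [hsm] using hbasis U hU) n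
  rw [hsm] at h1
  have h2 : (⊤ : Submodule A A).topologicalClosure = ⊤ :=
    eq_top_iff.mpr (Submodule.le_topologicalClosure _)
  rw [h2, hsm] at h1
  rw [← subset_antisymm h1 subset_closure]
  exact hopen n

end Adic

end Groth.Agent.H24Lin
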