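import Groth.Agent.H24Lin.Taut
import Mathlib.Topology.Algebra.GroupCompletion
import Mathlib.Topology.Algebra.UniformRing
import Mathlib.Topology.Algebra.UniformMulAction
import Mathlib.Topology.DenseEmbedding

/-!
Open mappings out of complete first countable groups, and completions.
-/

universe u v

open Filter Topology

set_option linter.style.haveILetI false

namespace Groth.Agent.H24Lin

theorem isOpenMap_and_surjective {G : Type u} [AddCommGroup G] [UniformSpace G] [IsUniformAddGroup G]
    [CompleteSpace G] {H : Type v} [AddCommGroup H] [TopologicalSpace H] [IsTopologicalAddGroup H]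
    [T2Space H] (f : G →+ H) (hf : Continuous f) (V : ℕ → AddSubgroup G) (hanti : Antitone V)
    (hV : (𝓝 (0 : G)).HasBasis (fun _ => True) (fun n => (V n : Set G)))
    (hopen : ∀ n, closure (f '' (V n : Set G)) ∈ 𝓝 (0 : H)) (hd : DenseRange f) :
    Function.Surjective f ∧ IsOpenMap f ∧ ∀ n, f '' (V n : Set G) ∈ 𝓝 (0 : H) := by
  have hsmall : ∀ U ∈ 𝓝 (0 : G), ∃ n, (V n : Set G) ⊆ U := fun U hU => by
    obtain ⟨n, -, hn⟩ := hV.mem_iff.mp hU
    exact ⟨n, hn⟩
  have hcl : ∀ n, (V n).topologicalClosure = V n := fun n => SetLike.ext' (IsClosed.closure_eq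
    ((V n).isClosed_of_isOpen ((V n).isOpen_of_mem_nhds (g := 0) (hV.mem_of_mem trivial))))
  have him : ∀ n, f '' (V n : Set G) ∈ 𝓝 (0 : H) := fun n => by
    refine mem_of_superset (hopen n) fun y hy => ?_
    obtain ⟨x, hx, rfl⟩ := mem_image_of_mem_closure f hf V hanti hsmall hopen hy
    exact ⟨x, by rwa [hcl] at hx, rfl⟩
  refine ⟨fun y => ?_, ?_, him⟩
  · let V' : ℕ → AddSubgroup G := fun n => n.casesOn ⊤ V
    obtain ⟨x, -, hx⟩ := mem_image_of_mem_closure f hf V'
      (antitone_nat_of_succ_le fun n => by cases n with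
        | zero => exact le_top
        | succ m => exact hanti m.le_succ)
      (fun U hU => (hsmall U hU).elim fun n hn => ⟨n + 1, hn⟩)
      (fun n => by cases n with
        | zero => simp [V', hd.closure_eq]
        | succ m => exact hopen m)
      (k := 0) (y := y) (by simp [V', hd.closure_eq])
    exact ⟨x, hx⟩
  · refine IsTopologicalAddGroup.isOpenMap_iff_nhds_zero.mpr ?_
    rw [(hV.map f).ge_iff]
    exact fun n _ => him n

theorem sup_pow_le {A : Type u} [CommRing A] (a b : Ideal A) (n : ℕ) : (a ⊔ b) ^ n ≤ a ^ n ⊔ b := by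
  induction n with
  | zero => simp
  | succ n ih =>
    refine le_trans (le_of_eq (pow_succ (a ⊔ b) n)) (Ideal.mul_le.mpr fun r hr s hs => ?_)
    obtain ⟨p, hp, q, hq, rfl⟩ := Submodule.mem_sup.mp (ih hr)
    obtain ⟨p', hp', q', hq', rfl⟩ := Submodule.mem_sup.mp hs
    rw [show (p + q) * (p' + q') = p * p' + (p * q' + q * (p' + q')) by ring]
    refine Submodule.add_mem_sup ?_ (b.add_mem (b.mul_mem_left _ hq') (b.mul_mem_right _ hq))
    rw [pow_succ]
    exact Ideal.mul_mem_mul hp hp'

section Completion

variable {G : Type u} [AddCommGroup G] [UniformSpace G] [IsUniformAddGroup G]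

open UniformSpace

theorem closure_image_coe_mem_nhds {U : Set G} (hU : U ∈ 𝓝 (0 : G)) :
    closure (((↑) : G → Completion G) '' U) ∈ 𝓝 (0 : Completion G) := by
  rw [← Completion.coe_zero]
  exact Completion.isDenseInducing_coe.closure_image_mem_nhds hU

theorem exists_closure_image_coe_subset {ι : Type v} {p : ι → Prop} {s : ι → Set G}
    (h : (𝓝 (0 : G)).HasBasis p s) {W : Set (Completion G)} (hW : W ∈ 𝓝 (0 : Completion G)) :
    ∃ i, p i ∧ closure (((↑) : G → Completion G) '' s i) ⊆ W := by
  obtain ⟨V, hV, hVc, hVW⟩ := exists_mem_nhds_isClosed_subset hW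
  obtain ⟨i, hi, hiV⟩ := h.mem_iff.mp
    ((Completion.continuous_coe G).tendsto' 0 0 Completion.coe_zero hV)
  exact ⟨i, hi, Set.Subset.trans (closure_minimal (Set.image_subset_iff.mpr hiV) hVc) hVW⟩

theorem mem_of_coe_mem_closure_image {U : AddSubgroup G} (hU : IsOpen (U : Set G)) {y : G}
    (hy : (y : Completion G) ∈ closure (((↑) : G → Completion G) '' (U : Set G))) : y ∈ U := by
  have h : y ∈ closure (U : Set G) := by
    rw [(Completion.isUniformInducing_coe G).isInducing.closure_eq_preimage_closure_image]
    exact hy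
  rwa [(U.isClosed_of_isOpen hU).closure_eq] at h

end Completion

section Ring

variable {A : Type u} [CommRing A] [UniformSpace A] [IsUniformAddGroup A] [IsTopologicalRing A]

open UniformSpace

theorem closure_map_coe (I : Ideal A) :
    ((I.map (Completion.coeRingHom : A →+* Completion A)).closure : Set (Completion A)) =
      closure (((↑) : A → Completion A) '' (I : Set A)) :=
  map_le_closure_image Completion.denseRange_coe I

theorem isOpen_closure_map_coe (I : Ideal A) (hI : IsOpen (I : Set A)) :
    IsOpen ((I.map (Completion.coeRingHom : A →+* Completion A)).closure : Set (Completion A)) := by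
  refine AddSubgroup.isOpen_of_mem_nhds
    (H := (I.map (Completion.coeRingHom : A →+* Completion A)).closure.toAddSubgroup) (g := 0) ?_
  change ((I.map (Completion.coeRingHom : A →+* Completion A)).closure : Set (Completion A)) ∈ _
  rw [closure_map_coe]
  exact closure_image_coe_mem_nhds (hI.mem_nhds I.zero_mem)

theorem isTaut_coe [IsLinearTopology A A] :
    LinTop.IsTaut (Completion.coeRingHom : A →+* Completion A) := by
  refine ⟨Completion.continuous_coeRingHom, isOpen_closure_map_coe, fun U hU => ?_⟩
  obtain ⟨I, hI, hIU⟩ := exists_closure_image_coe_subset basis_open_ideal hU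
  exact ⟨I, hI, by rw [← Ideal.coe_closure, closure_map_coe]; exact hIU⟩

theorem isLinearTopology_completion [IsLinearTopology A A] :
    IsLinearTopology (Completion A) (Completion A) := by
  refine IsLinearTopology.mk_of_hasBasis (Completion A) (p := fun I : Ideal A => IsOpen (I : Set A))
    (s := fun I => (I.map (Completion.coeRingHom : A →+* Completion A)).closure) ⟨fun U => ⟨fun hU => ?_, ?_⟩⟩
  · obtain ⟨I, hI, hIU⟩ := exists_closure_image_coe_subset basis_open_ideal hU
    exact ⟨I, hI, by rw [closure_map_coe]; exact hIU⟩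
  · rintro ⟨I, hI, hIU⟩
    exact mem_of_superset (nhds_of_isOpen _ (isOpen_closure_map_coe I hI)) hIU

end Ring

end Groth.Agent.H24Lin
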