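import Groth.Agent.H24Lin.Basic

/-!
Taut maps of linearly topologized rings.
-/

universe u v

open Filter Topology

set_option linter.style.haveILetI false

namespace Groth.Agent.H24Lin

variable {A : Type u} [CommRing A] [TopologicalSpace A] [IsTopologicalRing A]
  {B : Type v} [CommRing B] [TopologicalSpace B] [IsTopologicalRing B]

theorem closure_pow_map (φ : A →+* B) (I : Ideal A) (n : ℕ) :
    ((I.map φ).closure ^ n).closure = ((I ^ n).map φ).closure := by
  rw [Ideal.map_pow]
  exact le_antisymm ((closure_mono (closure_pow_le _ n)).trans (closure_closure _).le)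
    (closure_mono (Ideal.pow_right_mono (le_closure _) n))

theorem comap_closure_map_eq {φ : A →+* B} (hφ : LinTop.IsTautFFlat φ) (I : Ideal A)
    (hI : IsOpen (I : Set A)) : (I.map φ).closure.comap φ = I := by
  refine le_antisymm (fun a ha => ?_) fun a ha => le_closure _ (Ideal.mem_map_of_mem φ ha)
  refine Ideal.Quotient.eq_zero_iff_mem.mp ((hφ.2 I hI).injective ?_)
  rw [map_zero, LinTop.descentMap, Ideal.quotientMap_mk]
  exact Ideal.Quotient.eq_zero_iff_mem.mpr ha

/-- In the taut faithfully flat situation the topology of the source is induced from the target. -/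
theorem exists_preimage_subset [IsLinearTopology A A] [IsLinearTopology B B] {φ : A →+* B}
    (hφ : LinTop.IsTautFFlat φ) {U : Set A} (hU : U ∈ 𝓝 (0 : A)) :
    ∃ V : Ideal B, IsOpen (V : Set B) ∧ ((V.comap φ : Ideal A) : Set A) ⊆ U := by
  obtain ⟨I, hI, hIU⟩ := exists_open_ideal hU
  exact ⟨(I.map φ).closure, hφ.1.2.1 I hI, by rw [comap_closure_map_eq hφ I hI]; exact hIU⟩

theorem comap_closure_map_le_closure [IsLinearTopology A A] {φ : A →+* B}
    (hφ : LinTop.IsTautFFlat φ) (I : Ideal A) : (I.map φ).closure.comap φ ≤ I.closure := by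
  intro a ha
  change a ∈ closure (I : Set A)
  rw [mem_closure_iff_nhds]
  intro W hW
  have ht : Tendsto (fun y => a - y) (𝓝 (0 : A)) (𝓝 a) :=
    ((continuous_const (y := a)).sub continuous_id).tendsto' _ _ (sub_zero a)
  obtain ⟨U, hU, hUW⟩ := exists_open_ideal (ht hW)
  have h1 : a ∈ I ⊔ U := by
    rw [← comap_closure_map_eq hφ (I ⊔ U) (isOpen_of_le le_sup_right hU)]
    exact closure_mono (Ideal.map_mono le_sup_left) ha
  obtain ⟨i, hi, u, hu, rfl⟩ := Submodule.mem_sup.mp h1
  exact ⟨i, by simpa using hUW hu, hi⟩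

/-- Closures of powers of ideals of definition in a weakly preadic ring are open. -/
theorem isOpen_closure_pow {I J : Ideal A} (hI : ∀ n : ℕ, IsOpen (closure ((I ^ n : Ideal A) : Set A)))
    {m : ℕ} (h : I ^ m ≤ J) (n : ℕ) : IsOpen ((J ^ n).closure : Set A) := by
  refine isOpen_of_le (I := (I ^ (m * n)).closure) (closure_mono ?_) (hI (m * n))
  rw [pow_mul]
  exact Ideal.pow_right_mono h n

theorem isIdealOfDefinition_closure {I : Ideal A} (ho : IsOpen (I.closure : Set A))
    (h : ∀ U ∈ 𝓝 (0 : A), ∃ n : ℕ, ((I ^ n).closure : Set A) ⊆ U) :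
    LinTop.IsIdealOfDefinition A I.closure := by
  refine ⟨ho, fun U hU => ?_⟩
  obtain ⟨n, hn⟩ := h U hU
  exact ⟨n + 1, n.succ_pos,
    Set.Subset.trans ((closure_pow_le I (n + 1)).trans (closure_mono (Ideal.pow_le_pow_right n.le_succ))) hn⟩

theorem pow_closure_subset [IsLinearTopology A A] {I : Ideal A}
    (h : ∀ U ∈ 𝓝 (0 : A), ∃ n : ℕ, ((I ^ n : Ideal A) : Set A) ⊆ U) :
    ∀ U ∈ 𝓝 (0 : A), ∃ n : ℕ, ((I ^ n).closure : Set A) ⊆ U := fun U hU => by
  obtain ⟨V, hV, hVU⟩ := exists_open_ideal hU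
  obtain ⟨n, hn⟩ := h _ (nhds_of_isOpen V hV)
  exact ⟨n, Set.Subset.trans (closure_le_of_isClosed hn (V.toAddSubgroup.isClosed_of_isOpen hV)) hVU⟩

theorem exists_antitone_basis [IsLinearTopology A A] (h : (𝓝 (0 : A)).IsCountablyGenerated) :
    ∃ V : ℕ → Ideal A, Antitone V ∧ (∀ n, IsOpen (V n : Set A)) ∧
      (𝓝 (0 : A)).HasBasis (fun _ => True) (fun n => (V n : Set A)) := by
  haveI := h
  obtain ⟨V, hV, hb⟩ := (basis_open_ideal (A := A)).exists_antitone_subbasis
  exact ⟨V, fun a b hab => hb.antitone hab, hV, hb.toHasBasis⟩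

/-- A copy of a ring carrying the adic topology of an ideal. -/
@[nolint unusedArguments]
def AdicCopy (A : Type u) [CommRing A] (_ : Ideal A) : Type u := A

instance (A : Type u) [CommRing A] (I : Ideal A) : CommRing (AdicCopy A I) := inferInstanceAs (CommRing A)

/-- The identity, as a map out of the copy. -/
def AdicCopy.toRing (A : Type u) [CommRing A] (I : Ideal A) : AdicCopy A I →+* A := RingHom.id A

/-- The ideal seen in the copy. -/
def AdicCopy.ideal (A : Type u) [CommRing A] (I : Ideal A) : Ideal (AdicCopy A I) := I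

instance (A : Type u) [CommRing A] (I : Ideal A) : TopologicalSpace (AdicCopy A I) :=
  (AdicCopy.ideal A I).adicTopology

instance (A : Type u) [CommRing A] (I : Ideal A) : IsTopologicalRing (AdicCopy A I) :=
  (RingSubgroupsBasis.toRingFilterBasis _).isTopologicalRing

theorem AdicCopy.isAdic (A : Type u) [CommRing A] (I : Ideal A) : IsAdic (AdicCopy.ideal A I) := rfl

theorem AdicCopy.isTaut_toRing (I : Ideal A) (ho : ∀ n : ℕ, IsOpen (closure ((I ^ n : Ideal A) : Set A)))
    (hb : ∀ U ∈ 𝓝 (0 : A), ∃ n : ℕ, closure ((I ^ n : Ideal A) : Set A) ⊆ U) :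
    LinTop.IsTaut (AdicCopy.toRing A I) := by
  have hh := isAdic_iff.mp (AdicCopy.isAdic A I)
  have hbas := (AdicCopy.isAdic A I).hasBasis_nhds_zero
  refine ⟨continuous_of_continuousAt_zero _ fun U hU => ?_, fun J hJ => ?_, fun U hU => ?_⟩
  · rw [map_zero] at hU
    obtain ⟨n, hn⟩ := hb _ hU
    exact hbas.mem_iff.mpr ⟨n, trivial, fun x hx => hn (subset_closure (X := A) hx)⟩
  · obtain ⟨n, -, hn⟩ := hbas.mem_iff.mp (hJ.mem_nhds J.zero_mem)
    refine isOpen_of_le (I := (I ^ n).closure) (J := (J.map (AdicCopy.toRing A I)).closure)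
      (closure_mono fun x hx => Ideal.mem_map_of_mem (AdicCopy.toRing A I) (hn hx)) (ho n)
  · obtain ⟨n, hn⟩ := hb U hU
    refine ⟨(AdicCopy.ideal A I) ^ n, hh.1 n, Set.Subset.trans ?_ hn⟩
    exact closure_mono (le_of_eq (Ideal.map_id (I ^ n)))

end Groth.Agent.H24Lin
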